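import Mathlib
import Groth.Agent.H5.PerfectPull
import Groth.Prelude.Def_CxOX

/-!
# Perfectness of an object of `D(O_X)` is local on `X`
-/

set_option autoImplicit false
universe u
open CategoryTheory CategoryTheory.Limits AlgebraicGeometry Scheme.Modules

attribute [local instance] HasDerivedCategory.standard

namespace Groth.Agent.H33.Perf

variable {X : Scheme.{u}}

lemma isFinLocFree_of_iso {M N : X.Modules} (e : M ≅ N) (h : FlatMod.IsFinLocFree M) :
    FlatMod.IsFinLocFree N := by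
  intro x
  obtain ⟨U, n, hxU, ⟨i⟩⟩ := h x
  exact ⟨U, n, hxU, ⟨(restrictFunctor U.ι).mapIso e.symm ≪≫ i⟩⟩

lemma isFinLocFree_restrict {W : Scheme.{u}} (g : W ⟶ X) [IsOpenImmersion g] (M : X.Modules)
    (h : FlatMod.IsFinLocFree M) : FlatMod.IsFinLocFree ((restrictFunctor g).obj M) :=
  isFinLocFree_of_iso ((restrictFunctorIsoPullback g).app M).symm
    (Groth.Agent.H5.PerfectPull.isFinLocFree_pullback g M h)

lemma isStrictlyPerfect_restrict {W : Scheme.{u}} (g : W ⟶ X) [IsOpenImmersion g]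
    (E : CochainComplex X.Modules ℤ) (h : DCoh.IsStrictlyPerfect E) :
    DCoh.IsStrictlyPerfect
      (((restrictFunctor g).mapHomologicalComplex (ComplexShape.up ℤ)).obj E) := by
  obtain ⟨⟨a, b, hab⟩, hfl⟩ := h
  exact ⟨⟨a, b, fun i hi => (restrictFunctor g).map_isZero (hab i hi)⟩,
    fun i => isFinLocFree_restrict g _ (hfl i)⟩

lemma isPerfect_of_iso {K L : DCoh.D X} (e : K ≅ L) (h : DCoh.IsPerfect K) :
    DCoh.IsPerfect L := by
  intro x
  obtain ⟨V, hxV, hV⟩ := h x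
  exact ⟨V, hxV, fun F ⟨eF⟩ => hV F ⟨eF ≪≫ e.symm⟩⟩

noncomputable def restrictImageIso₁ (W : X.Opens) (V' : (W : Scheme.{u}).Opens) :
    restrictFunctor (W.ι ''ᵁ V').ι ≅ restrictFunctor ((W.ι.isoImage V').inv ≫ V'.ι ≫ W.ι) :=
  restrictFunctorCongr (W.ι.isoImage_inv_ι V').symm

noncomputable def restrictImageIso₂ (W : X.Opens) (V' : (W : Scheme.{u}).Opens) :
    restrictFunctor ((W.ι.isoImage V').inv ≫ V'.ι ≫ W.ι) ≅
    restrictFunctor (V'.ι ≫ W.ι) ⋙ restrictFunctor (W.ι.isoImage V').inv :=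
  restrictFunctorComp (W.ι.isoImage V').inv (V'.ι ≫ W.ι)

noncomputable def restrictImageIso₃ (W : X.Opens) (V' : (W : Scheme.{u}).Opens) :
    restrictFunctor (V'.ι ≫ W.ι) ⋙ restrictFunctor (W.ι.isoImage V').inv ≅
    (restrictFunctor W.ι ⋙ restrictFunctor V'.ι) ⋙ restrictFunctor (W.ι.isoImage V').inv :=
   Functor.isoWhiskerRight (restrictFunctorComp V'.ι W.ι) _

/-- the restriction to `W.ι ''ᵁ V'` in terms of iterated restriction -/
noncomputable def restrictImageIso (W : X.Opens) (V' : (W : Scheme.{u}).Opens) :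
    restrictFunctor (W.ι ''ᵁ V').ι ≅
      restrictFunctor W.ι ⋙ restrictFunctor V'.ι ⋙ restrictFunctor (W.ι.isoImage V').inv :=
  restrictImageIso₁ W V' ≪≫ restrictImageIso₂ W V' ≪≫ restrictImageIso₃ W V' ≪≫
    Functor.associator _ _ _

/-- Perfectness is local: if every point has an open neighbourhood `W` with `K|_W` perfect,
then `K` is perfect. -/
theorem isPerfect_of_locally (K : DCoh.D X)
    (h : ∀ x : X, ∃ W : X.Opens, x ∈ W ∧ DCoh.IsPerfect ((DCoh.restrictD W.ι).obj K)) :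
    DCoh.IsPerfect K := by
  intro x
  obtain ⟨W, hxW, hW⟩ := h x
  obtain ⟨V', hxV', hV'⟩ := hW ⟨x, hxW⟩
  refine ⟨W.ι ''ᵁ V', ⟨⟨x, hxW⟩, hxV', rfl⟩, fun F ⟨eF⟩ => ?_⟩
  obtain ⟨E₁, hE₁, ⟨e₁⟩⟩ := hV' ((DCoh.restrictCx W).obj F)
    ⟨((restrictFunctor W.ι).mapDerivedCategoryFactors.app F).symm ≪≫
      (DCoh.restrictD W.ι).mapIso eF⟩
  let R := restrictFunctor (W.ι.isoImage V').inv
  refine ⟨(R.mapHomologicalComplex (ComplexShape.up ℤ)).obj E₁,
    isStrictlyPerfect_restrict _ E₁ hE₁, ⟨?_⟩⟩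
  let G := (DCoh.restrictCx V').obj ((DCoh.restrictCx W).obj F)
  let j1 : DerivedCategory.Q.obj ((DCoh.restrictCx (W.ι ''ᵁ V')).obj F) ≅
      DerivedCategory.Q.obj ((R.mapHomologicalComplex (ComplexShape.up ℤ)).obj G) :=
    DerivedCategory.Q.mapIso
      ((NatIso.mapHomologicalComplex (restrictImageIso W V') (ComplexShape.up ℤ)).app F)
  let j2 : DerivedCategory.Q.obj ((R.mapHomologicalComplex (ComplexShape.up ℤ)).obj G) ≅
      R.mapDerivedCategory.obj (DerivedCategory.Q.obj G) :=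
    (R.mapDerivedCategoryFactors.app G).symm
  let j3 : R.mapDerivedCategory.obj (DerivedCategory.Q.obj G) ≅
      R.mapDerivedCategory.obj (DerivedCategory.Q.obj E₁) :=
    R.mapDerivedCategory.mapIso e₁
  let j4 : R.mapDerivedCategory.obj (DerivedCategory.Q.obj E₁) ≅
      DerivedCategory.Q.obj ((R.mapHomologicalComplex (ComplexShape.up ℤ)).obj E₁) :=
    R.mapDerivedCategoryFactors.app E₁
  exact j1 ≪≫ j2 ≪≫ j3 ≪≫ j4

end Groth.Agent.H33.Perf
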