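import Mathlib
import Groth.Agent.H12.QCohAbelian
import Groth.Agent.H44.Retract
import Groth.Agent.H5.PerfectPull
import Groth.Prelude.Def_CxOX

/-!
# The mapping cone of a morphism of strictly perfect complexes is strictly perfect
-/

set_option autoImplicit false
universe u
open CategoryTheory CategoryTheory.Limits AlgebraicGeometry Scheme.Modules

namespace Groth.Agent.H33.Perf

variable {X : Scheme.{u}}

lemma app_comp_apply {A B C : X.Modules} (f : A ⟶ B) (g : B ⟶ C) (h : A ⟶ C) (e : f ≫ g = h)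
    (V : X.Opens) (x : Γ(A, V)) : g.app V (f.app V x) = h.app V x := by
  subst e; rfl

/-- sections of a biproduct -/
noncomputable def sectionsBiprodEquiv (M N : X.Modules) (V : X.Opens) :
    Γ(M ⊞ N, V) ≃ₗ[Γ(X, V)] Γ(M, V) × Γ(N, V) where
  toFun x := ((biprod.fst : M ⊞ N ⟶ M).app V x, (biprod.snd : M ⊞ N ⟶ N).app V x)
  map_add' x y := by simp
  map_smul' r x := by simp
  invFun p := (biprod.inl : M ⟶ M ⊞ N).app V p.1 + (biprod.inr : N ⟶ M ⊞ N).app V p.2
  left_inv x := by
    have h : ((biprod.fst ≫ biprod.inl + biprod.snd ≫ biprod.inr : M ⊞ N ⟶ M ⊞ N)).app V x = x := by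
      rw [biprod.total]; rfl
    exact h
  right_inv p := by
    obtain ⟨a, b⟩ := p
    have h1 := app_comp_apply _ _ _ (biprod.inl_fst (X := M) (Y := N)) V a
    have h2 := app_comp_apply _ _ _ (biprod.inr_fst (X := M) (Y := N)) V b
    have h3 := app_comp_apply _ _ _ (biprod.inl_snd (X := M) (Y := N)) V a
    have h4 := app_comp_apply _ _ _ (biprod.inr_snd (X := M) (Y := N)) V b
    ext
    · change (biprod.fst : M ⊞ N ⟶ M).app V (_ + _) = a
      rw [map_add, h1, h2]
      change a + 0 = a
      simp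
    · change (biprod.snd : M ⊞ N ⟶ N).app V (_ + _) = b
      rw [map_add, h3, h4]
      change 0 + b = b
      simp

lemma isFinLocFree_of_iso' {M N : X.Modules} (e : M ≅ N) (h : FlatMod.IsFinLocFree M) :
    FlatMod.IsFinLocFree N := by
  intro x
  obtain ⟨U, n, hxU, ⟨i⟩⟩ := h x
  exact ⟨U, n, hxU, ⟨(restrictFunctor U.ι).mapIso e.symm ≪≫ i⟩⟩

theorem isFinLocFree_biprod (M N : X.Modules) (hM : FlatMod.IsFinLocFree M)
    (hN : FlatMod.IsFinLocFree N) : FlatMod.IsFinLocFree (M ⊞ N) := by
  have := Groth.Agent.H5.PerfectPull.isQuasicoherent_of_isFinLocFree M hM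
  have := Groth.Agent.H5.PerfectPull.isQuasicoherent_of_isFinLocFree N hN
  have := Groth.Agent.H12.QCohAbelian.isQuasicoherent_biprod M N
  rw [Groth.Agent.H44.isFinLocFree_iff]
  intro V
  obtain ⟨fM, pM⟩ := Groth.Agent.H44.finite_projective_of_isFinLocFree M hM V.2
  obtain ⟨fN, pN⟩ := Groth.Agent.H44.finite_projective_of_isFinLocFree N hN V.2
  exact ⟨Module.Finite.equiv (sectionsBiprodEquiv M N V.1).symm,
    Module.Projective.of_equiv (sectionsBiprodEquiv M N V.1).symm⟩

/-- the terms of the mapping cone -/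
noncomputable def mappingConeXIso {E F : CochainComplex X.Modules ℤ} (φ : E ⟶ F) (i : ℤ) :
    (CochainComplex.mappingCone φ).X i ≅ E.X (i + 1) ⊞ F.X i :=
  HomologicalComplex.homotopyCofiber.XIsoBiprod φ i (i + 1) rfl

theorem isStrictlyPerfect_mappingCone {E F : CochainComplex X.Modules ℤ} (φ : E ⟶ F)
    (hE : DCoh.IsStrictlyPerfect E) (hF : DCoh.IsStrictlyPerfect F) :
    DCoh.IsStrictlyPerfect (CochainComplex.mappingCone φ) := by
  obtain ⟨⟨a, b, hab⟩, hEf⟩ := hE
  obtain ⟨⟨a', b', hab'⟩, hFf⟩ := hF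
  refine ⟨⟨min a a' - 1, max b b', fun i hi => ?_⟩, fun i => ?_⟩
  · refine IsZero.of_iso ?_ (mappingConeXIso φ i)
    rw [biprod_isZero_iff]
    constructor
    · apply hab
      rcases hi with hi | hi
      · left; have := min_le_left a a'; omega
      · right; have := le_max_left b b'; omega
    · apply hab'
      rcases hi with hi | hi
      · left; have := min_le_right a a'; omega
      · right; have := le_max_right b b'; omega
  · exact isFinLocFree_of_iso' (mappingConeXIso φ i).symm
      (isFinLocFree_biprod _ _ (hEf (i + 1)) (hFf i))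

end Groth.Agent.H33.Perf
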