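import Mathlib
import Groth.Agent.H33.Perf.Local
import Groth.Agent.H33.Supp.ExtZero

/-!
# `Rj_*` of a perfect complex supported on a closed subset of `X` contained in `U` is perfect
-/

set_option autoImplicit false
universe u
open CategoryTheory CategoryTheory.Limits AlgebraicGeometry Scheme.Modules ZeroObject

attribute [local instance] HasDerivedCategory.standard

namespace Groth.Agent.H33.Perf

variable {X : Scheme.{u}}

lemma isZero_sigma_of_isEmpty {C : Type*} [Category C] [HasZeroMorphisms C] {ι : Type*}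
    [IsEmpty ι] (f : ι → C) [HasCoproduct f] : IsZero (∐ f) := by
  rw [IsZero.iff_id_eq_zero]
  exact Sigma.hom_ext _ _ (fun b => isEmptyElim b)

lemma isFinLocFree_of_isZero (M : X.Modules) (hM : IsZero M) : FlatMod.IsFinLocFree M := by
  intro x
  refine ⟨⊤, 0, trivial, ⟨IsZero.iso ?_ ?_⟩⟩
  · exact (restrictFunctor (⊤ : X.Opens).ι).map_isZero hM
  · exact isZero_sigma_of_isEmpty _

lemma isStrictlyPerfect_zero : DCoh.IsStrictlyPerfect (0 : CochainComplex X.Modules ℤ) :=
  ⟨⟨0, 0, fun i _ => (HomologicalComplex.eval _ _ i).map_isZero (isZero_zero _)⟩,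
    fun i => isFinLocFree_of_isZero _ ((HomologicalComplex.eval _ _ i).map_isZero (isZero_zero _))⟩

lemma isPerfect_of_isZero (K : DCoh.D X) (hK : IsZero K) : DCoh.IsPerfect K := by
  intro x
  refine ⟨⊤, trivial, fun F ⟨eF⟩ => ⟨0, isStrictlyPerfect_zero, ⟨IsZero.iso ?_ ?_⟩⟩⟩
  · exact IsZero.of_iso ((DCoh.restrictD (⊤ : X.Opens).ι).map_isZero hK)
      (((restrictFunctor (⊤ : X.Opens).ι).mapDerivedCategoryFactors.app F).symm ≪≫
        (DCoh.restrictD (⊤ : X.Opens).ι).mapIso eF)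
  · exact DerivedCategory.Q.map_isZero (isZero_zero _)

/-- the cohomology sheaves of `j_! F` vanish outside `T` if those of `F` do -/
lemma subsingleton_stalk_HD_extZeroD (U : X.Opens) [PreservesFiniteLimits (CxOX.extZero U.ι)]
    (T : Set X) (hT : IsClosed T) (F : DCoh.D (U : Scheme.{u}))
    (hF : ∀ (i : ℤ) (y : (U : Scheme.{u})), U.ι.base y ∉ T →
      Subsingleton ((DCoh.HD F i).presheaf.stalk y)) (i : ℤ) (x : X) (hx : x ∉ T) :
    Subsingleton ((DCoh.HD ((CxOX.extZeroD U.ι).obj F) i).presheaf.stalk x) := by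
  let V : X.Opens := ⟨Tᶜ, hT.isOpen_compl⟩
  refine Supp.subsingleton_stalk_of_isZero_restrictOpen _ V ?_ (show x ∈ V from hx)
  exact IsZero.of_iso (Supp.isZero_restrict_extZero U V (DCoh.HD F i) (fun y hy => hF i y hy))
    ((restrictFunctor V.ι).mapIso
      ((Groth.Agent.H16.ExactDer.homologyNatIso (CxOX.extZero U.ι) i).app F))

theorem isPerfect_Rpush_of_support (U : X.Opens) [DCoh.HasRpush U.ι]
    (E : DCoh.D (U : Scheme.{u})) (hE : DCoh.IsPerfect E) (T : Set X) (hT : IsClosed T)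
    (hTU : T ⊆ (U : Set X))
    (hF : ∀ (i : ℤ) (y : (U : Scheme.{u})), U.ι.base y ∉ T →
      Subsingleton ((DCoh.HD E i).presheaf.stalk y)) :
    DCoh.IsPerfect ((DCoh.Rpush U.ι).obj E) := by
  apply isPerfect_of_locally
  intro x
  by_cases hx : x ∈ U
  · refine ⟨U, hx, isPerfect_of_iso ?_ hE⟩
    have := Groth.Agent.H33.DerAdjU.isIso_derivedAdj_counit (restrictAdjunction U.ι)
      (Groth.Agent.H33.SchemeDer.hKinj (U : Scheme.{u}))
    exact (asIso ((Groth.Agent.H33.DerAdjU.derivedAdj (restrictAdjunction U.ι)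
      (Groth.Agent.H33.SchemeDer.hKinj (U : Scheme.{u}))).counit.app E)).symm
  · let V : X.Opens := ⟨Tᶜ, hT.isOpen_compl⟩
    refine ⟨V, fun hxT => hx (hTU hxT), isPerfect_of_isZero _ ?_⟩
    obtain ⟨e⟩ := Supp.nonempty_extZeroD_iso_Rpush U T hT hTU E hF
    refine IsZero.of_iso ?_ ((DCoh.restrictD V.ι).mapIso e.symm)
    exact Supp.isZero_restrictD_of_stalks V.ι _
      (fun i w => subsingleton_stalk_HD_extZeroD U T hT E hF i _ w.2)

end Groth.Agent.H33.Perf
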